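import Groth.Agent.CMLocalDim.Basic
import Groth.Agent.LocalDim.Closure
import Groth.Agent.GeomUnib.JacobsonDim

/-!
# Flat morphisms of schemes locally of finite type over a field
-/

universe u

open CategoryTheory CategoryTheory.Limits AlgebraicGeometry TopologicalSpace

namespace Groth.Agent.EquidimFlat

section
open FibreDim

/-- Additivity of the dimensions of closures in fibres. -/
theorem fdim_comp {X Y S : Scheme.{u}} (f : X ⟶ Y) (g : Y ⟶ S)
    [LocallyOfFiniteType f] [LocallyOfFiniteType g] (x : X) :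
    ∃ a b c : ℕ, fdim g (f x) = a ∧ fdim f x = b ∧ fdim (f ≫ g) x = c ∧ c = a + b := by
  obtain ⟨a, ha, haO⟩ := exists_fdim g (f x)
  obtain ⟨b, hb, hbO⟩ := exists_fdim f x
  obtain ⟨c, hc, hcO⟩ := exists_fdim (f ≫ g) x
  obtain ⟨U, hU, hsU, -⟩ := exists_isAffineOpen_mem_and_subset (X := S) (x := g (f x)) (U := ⊤) trivial
  obtain ⟨W, hW, hyW, hWU⟩ := exists_isAffineOpen_mem_and_subset (X := Y) (x := f x) (U := g ⁻¹ᵁ U) hsU
  obtain ⟨V, hV, hxV, hVW⟩ := exists_isAffineOpen_mem_and_subset (X := X) (x := x) (U := f ⁻¹ᵁ W) hyW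
  have hVU : V ≤ (f ≫ g) ⁻¹ᵁ U := fun z hz => hWU (hVW hz)
  obtain ⟨a', ha', ha'O⟩ := exists_dim_chart g hU hW hWU (f x) hyW
  obtain ⟨b', hb', hb'O⟩ := exists_dim_chart f hW hV hVW x hxV
  obtain ⟨c', hc', hc'O⟩ := exists_dim_chart (f ≫ g) hU hV hVU x hxV
  obtain rfl : a = a' := by exact_mod_cast (haO W W.2 hyW).symm.trans ha'O
  obtain rfl : b = b' := by exact_mod_cast (hbO V V.2 hxV).symm.trans hb'O
  obtain rfl : c = c' := by exact_mod_cast (hcO V V.2 hxV).symm.trans hc'O
  refine ⟨a, b, c, ha, hb, hc, ?_⟩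
  set φ₁ := (g.appLE U W hWU).hom
  set φ₂ := (f.appLE W V hVW).hom
  have hφ : ((f ≫ g).appLE U V hVU).hom = φ₂.comp φ₁ := by
    rw [← CommRingCat.hom_comp]
    congr 1
    exact (Scheme.Hom.appLE_comp_appLE f g U W V hWU hVW).symm
  set qX := hV.primeIdealOf ⟨x, hxV⟩
  set qY := hW.primeIdealOf ⟨f x, hyW⟩
  have hqY : qY.asIdeal = qX.asIdeal.comap φ₂ := by
    refine congrArg PrimeSpectrum.asIdeal (hW.fromSpec.isOpenEmbedding.injective ?_ : qY = PrimeSpectrum.comap φ₂ qX)
    rw [hW.fromSpec_primeIdealOf]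
    have h2 : f (hV.fromSpec qX) = hW.fromSpec (PrimeSpectrum.comap φ₂ qX) := by
      refine (Scheme.Hom.comp_apply hV.fromSpec f qX).symm.trans ?_
      erw [← IsAffineOpen.SpecMap_appLE_fromSpec f hW hV hVW, Scheme.Hom.comp_apply]
    rw [hV.fromSpec_primeIdealOf] at h2
    exact h2
  letI a1 := φ₁.toAlgebra
  letI a2 := φ₂.toAlgebra
  letI a3 := ((f ≫ g).appLE U V hVU).hom.toAlgebra
  haveI : IsScalarTower Γ(S, U) Γ(Y, W) Γ(X, V) := IsScalarTower.of_algebraMap_eq' hφ
  let A := Γ(S, U) ⧸ qX.asIdeal.under Γ(S, U)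
  let B := Γ(Y, W) ⧸ qX.asIdeal.under Γ(Y, W)
  let C := Γ(X, V) ⧸ qX.asIdeal
  letI : Algebra A B := (Ideal.quotientMap (qX.asIdeal.under Γ(Y, W)) (algebraMap Γ(S, U) Γ(Y, W))
    (by rw [Ideal.comap_comap, ← IsScalarTower.algebraMap_eq])).toAlgebra
  haveI : IsScalarTower A B C := IsScalarTower.of_algebraMap_eq fun z => by
    obtain ⟨z, rfl⟩ := Ideal.Quotient.mk_surjective z
    exact congrArg (Ideal.Quotient.mk qX.asIdeal) (IsScalarTower.algebraMap_apply Γ(S, U) Γ(Y, W) Γ(X, V) z)
  haveI : FaithfulSMul A B := (faithfulSMul_iff_algebraMap_injective _ _).2 (Ideal.quotientMap_injective' (by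
    rw [Ideal.comap_comap, ← IsScalarTower.algebraMap_eq]))
  haveI : FaithfulSMul B C := (faithfulSMul_iff_algebraMap_injective _ _).2 (Ideal.quotientMap_injective' le_rfl)
  have hsum := trdeg_add_eq A B (A := C)
  have e2 : Algebra.trdeg B C = b := hb'
  have e3 : Algebra.trdeg A C = c := hc'
  have e1 : Algebra.trdeg A B = a := by
    rw [← ha']
    have hu : qY.asIdeal.under Γ(S, U) = qX.asIdeal.under Γ(S, U) := by
      rw [hqY]
      show (qX.asIdeal.comap φ₂).comap φ₁ = qX.asIdeal.comap ((f ≫ g).appLE U V hVU).hom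
      rw [Ideal.comap_comap, hφ]
    refine trdeg_eq_of_ringEquiv (Ideal.quotEquivOfEq hu.symm) (Ideal.quotEquivOfEq hqY.symm) fun z => ?_
    obtain ⟨z, rfl⟩ := Ideal.Quotient.mk_surjective z
    rfl
  rw [e1, e2, e3] at hsum
  exact_mod_cast hsum.symm

end

variable {k : Type u} [Field k]

theorem fdim_eq_closure {T : Scheme.{u}} (g : T ⟶ Spec (CommRingCat.of k)) (w : T) :
    FibreDim.fdim g w = topologicalKrullDim (closure ({w} : Set T)) := by
  have hsub : Subsingleton ↥(Spec (CommRingCat.of k)) := inferInstanceAs (Subsingleton (PrimeSpectrum k))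
  have h : g.base ⁻¹' {g.base w} = Set.univ := Set.eq_univ_of_forall fun z => Subsingleton.elim (g.base z) (g.base w)
  rw [FibreDim.fdim, h, Set.inter_univ]

variable {X Y : Scheme.{u}} (f : X ⟶ Y)

theorem fdim_eq_fibre_closure (x : X) :
    FibreDim.fdim f x = topologicalKrullDim (closure ({f.asFiber x} : Set ↑(f.fiber (f x)))) := by
  rw [← FibreDim.dim_image (f.fiberι (f x)).isEmbedding, (f.fiberι (f x)).isEmbedding.closure_eq_preimage_closure_image,
    Set.image_preimage_eq_inter_range, Set.image_singleton, f.fiberι_asFiber, f.range_fiberι]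
  rfl

variable [LocallyOfFiniteType f] (q : Y ⟶ Spec (CommRingCat.of k)) [LocallyOfFiniteType q]

include q in
/-- Local dimensions add along a flat morphism of schemes locally of finite type over a field. -/
theorem localDim_eq_add [Flat f] (x : X) :
    FlatMor.localDim ↥X x = FlatMor.localDim ↥Y (f x) + FlatMor.fibreDimAt f x := by
  haveI : IsLocallyNoetherian Y := LocallyOfFiniteType.isLocallyNoetherian q
  haveI : LocallyOfFiniteType (f.fiberToSpecResidueField (f x)) :=
    MorphismProperty.of_isPullback (P := @LocallyOfFiniteType) (IsPullback.of_hasPullback f (Y.fromSpecResidueField (f x))) inferInstance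
  obtain ⟨a, b, c, ha, hb, hc, hcab⟩ := fdim_comp f q x
  rw [fdim_eq_closure] at ha hc
  rw [fdim_eq_fibre_closure] at hb
  have hst := CMLocalDim.dim_stalk_eq f (f x) (f.asFiber x) (Flat.stalkMap f _)
  rw [f.fiberι_asFiber] at hst
  rw [FlatMor.fibreDimAt, LocalDim.localDim_eq_stalk_add_closure (f ≫ q) x,
    LocalDim.localDim_eq_stalk_add_closure q (f x),
    LocalDim.localDim_eq_stalk_add_closure (k := Y.residueField (f x)) (f.fiberToSpecResidueField (f x)) (f.asFiber x),
    ha, hb, hc, hst, hcab, Nat.cast_add]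
  exact add_add_add_comm _ _ _ _

omit [LocallyOfFiniteType q] in
theorem exists_dim_eq_localDim {T : Scheme.{u}} (g : T ⟶ Spec (CommRingCat.of k)) [LocallyOfFiniteType g] {Z : Set T}
    (hZ : Z ∈ irreducibleComponents ↥T) :
    ∃ η : T, FibDim.IsMax' η ∧ closure {η} = Z ∧ topologicalKrullDim ↥Z = FlatMor.localDim ↥T η := by
  obtain ⟨η, hη, hmax⟩ := FibDim.exists_isMax'_component hZ
  obtain ⟨n, hn, ⟨η', hη', -, hn'⟩, -⟩ := LocalDim.exists_localDim g η
  rw [hmax η' hη', hη] at hn'
  exact ⟨η, hmax, hη, hn'.trans hn.symm⟩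

omit [LocallyOfFiniteType q] in
theorem localDim_eq_of_components {T : Scheme.{u}} (g : T ⟶ Spec (CommRingCat.of k)) [LocallyOfFiniteType g]
    {d : WithBot ℕ∞} (h : ∀ Z ∈ irreducibleComponents ↥T, topologicalKrullDim ↥Z = d) (t : T) :
    FlatMor.localDim ↥T t = d := by
  obtain ⟨m, hm, ⟨η, -, hη, hηm⟩, -⟩ := LocalDim.exists_localDim g t
  rw [hm, ← hηm]
  exact h _ (FibDim.closure_mem_components hη)

omit [LocallyOfFiniteType q] in
theorem exists_dim_of_irreducible {T : Scheme.{u}} [IrreducibleSpace T] (g : T ⟶ Spec (CommRingCat.of k))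
    [LocallyOfFiniteType g] :
    ∃ d : ℕ, topologicalKrullDim ↥T = d ∧ ∀ Z ∈ irreducibleComponents ↥T, topologicalKrullDim ↥Z = d := by
  have hu : ∀ Z ∈ irreducibleComponents ↥T, Z = Set.univ := fun Z hZ =>
    Set.eq_univ_of_univ_subset (hZ.2 (IrreducibleSpace.isIrreducible_univ T) (Set.subset_univ _))
  obtain ⟨d, -, ⟨η, -, hη, hd⟩, -⟩ := LocalDim.exists_localDim g (genericPoint T)
  rw [hu _ (FibDim.closure_mem_components hη), FibreDim.dim_homeo (Homeomorph.Set.univ _)] at hd
  exact ⟨d, hd, fun Z hZ => by rw [hu Z hZ, FibreDim.dim_homeo (Homeomorph.Set.univ _)]; exact hd⟩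

include q in
/-- For a flat morphism to an equidimensional scheme, the source is equidimensional exactly when the
fibres are. -/
theorem components_iff [Flat f] (d n : ℕ) (hY : ∀ y : Y, FlatMor.localDim ↥Y y = (d : WithBot ℕ∞)) :
    (∀ Z ∈ irreducibleComponents ↥X, topologicalKrullDim ↥Z = ((d + n : ℕ) : WithBot ℕ∞)) ↔
      ∀ (y : Y), ∀ Z ∈ irreducibleComponents ↥(f.fiber y), topologicalKrullDim ↥Z = (n : WithBot ℕ∞) := by
  have hF : ∀ y, LocallyOfFiniteType (f.fiberToSpecResidueField y) := fun y =>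
    MorphismProperty.of_isPullback (P := @LocallyOfFiniteType) (IsPullback.of_hasPullback f (Y.fromSpecResidueField y)) inferInstance
  constructor
  · intro h y Z hZ
    haveI := hF y
    obtain ⟨z, hz, hzZ, hd⟩ := exists_dim_eq_localDim (k := Y.residueField y) (f.fiberToSpecResidueField y) hZ
    have hy : f (f.fiberι y z) = y := (f.range_fiberι y).le ⟨z, rfl⟩
    subst hzZ
    rw [hd]
    have key : ∀ (y : Y) (z : ↑(f.fiber y)) (y' : Y) (z' : ↑(f.fiber y')), y = y' → f.fiberι y z = f.fiberι y' z' →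
        FlatMor.localDim ↑(f.fiber y) z = FlatMor.localDim ↑(f.fiber y') z' := by
      rintro y z y' z' rfl he
      rw [(f.fiberι y).isEmbedding.injective he]
    have hadd := localDim_eq_add f q (f.fiberι y z)
    rw [localDim_eq_of_components (f ≫ q) h, hY, FlatMor.fibreDimAt,
      key _ _ _ z hy (f.fiberι_asFiber _), Nat.cast_add, add_comm, add_comm (d : WithBot ℕ∞)] at hadd
    exact (DimFormulaIrr.add_natCast_cancel hadd).symm
  · intro h Z hZ
    obtain ⟨η, hη, hηZ, hd⟩ := exists_dim_eq_localDim (f ≫ q) hZ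
    haveI := hF (f η)
    rw [hd, localDim_eq_add f q η, hY, FlatMor.fibreDimAt,
      localDim_eq_of_components (k := Y.residueField (f η)) (f.fiberToSpecResidueField (f η)) (h (f η)), Nat.cast_add]

end Groth.Agent.EquidimFlat

namespace Groth.Agent.EquidimFlat

variable {k : Type u} [Field k] {X Y Y' X' : Scheme.{u}}

/-- Equidimensionality of fibres is stable under base change. -/
theorem fibres_of_isPullback {f : X ⟶ Y} [LocallyOfFiniteType f] {g : Y' ⟶ Y} {f' : X' ⟶ Y'} {g' : X' ⟶ X}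
    (h : IsPullback g' f' f g) (n : ℕ)
    (hf : ∀ (y : Y), ∀ Z ∈ irreducibleComponents ↥(f.fiber y), topologicalKrullDim ↥Z = (n : WithBot ℕ∞)) (y' : Y') :
    ∀ Z ∈ irreducibleComponents ↥(f'.fiber y'), topologicalKrullDim ↥Z = (n : WithBot ℕ∞) := by
  intro Z hZ
  haveI : LocallyOfFiniteType f' := MorphismProperty.of_isPullback (P := @LocallyOfFiniteType) h inferInstance
  haveI : LocallyOfFiniteType (f.fiberToSpecResidueField (g y')) :=
    MorphismProperty.of_isPullback (P := @LocallyOfFiniteType) (IsPullback.of_hasPullback f (Y.fromSpecResidueField (g y'))) inferInstance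
  have h1 : IsPullback (f'.fiberι y' ≫ g') (f'.fiberToSpecResidueField y') f (Y'.fromSpecResidueField y' ≫ g) :=
    (IsPullback.of_hasPullback f' (Y'.fromSpecResidueField y')).paste_horiz h
  rw [← Scheme.Hom.SpecMap_residueFieldMap_fromSpecResidueField g y'] at h1
  have h2 := IsPullback.of_hasPullback f (Y.fromSpecResidueField (g y'))
  let φ : f'.fiber y' ⟶ f.fiber (g y') :=
    h2.lift (f'.fiberι y' ≫ g') (f'.fiberToSpecResidueField y' ≫ Spec.map (g.residueFieldMap y')) (by rw [h1.w, Category.assoc])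
  have h3 : IsPullback φ (f'.fiberToSpecResidueField y') (f.fiberToSpecResidueField (g y')) (Spec.map (g.residueFieldMap y')) := by
    refine IsPullback.of_right ?_ (h2.lift_snd _ _ _) h2
    have e : φ ≫ pullback.fst f (Y.fromSpecResidueField (g y')) = f'.fiberι y' ≫ g' := h2.lift_fst _ _ _
    exact e.symm ▸ h1
  obtain ⟨η, hη, hmax⟩ := FibDim.exists_isMax'_component (Z := f'.fiber y') hZ
  obtain ⟨hm, hd⟩ := FibDim.dim_closure_of_isPullback (L := Y.residueField (g y')) (K := Y'.residueField y')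
    (f.fiberToSpecResidueField (g y')) (g.residueFieldMap y') h3 η hmax
  rw [← hη, hd]
  exact hf _ _ (FibDim.closure_mem_components hm)

theorem add_le_of_forall {T : Type u} (P : T → Prop) (d : T → WithBot ℕ∞) {a c : WithBot ℕ∞} (r : ℕ)
    (h : ∀ t, P t → d t + r ≤ c) (ha : ∀ b, (∀ t, P t → d t ≤ b) → a ≤ b) : a + r ≤ c := by
  have hmono : ∀ {a b : WithBot ℕ∞}, a ≤ b → a + r ≤ b + r := fun h => add_le_add h le_rfl
  have hsub : ∀ m : ℕ∞, ((m : ℕ∞) : WithBot ℕ∞) + (r : WithBot ℕ∞) = ((m + r : ℕ∞) : WithBot ℕ∞) := fun m => by push_cast; rfl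
  induction c with
  | bot =>
    have := ha ⊥ (fun t ht => by
      rcases hd : d t with _ | m
      · exact le_rfl
      · have h' := h t ht
        rw [hd] at h'
        change ((m : ℕ∞) : WithBot ℕ∞) + _ ≤ _ at h'
        rw [hsub] at h'
        exact absurd h' (not_le_of_gt (WithBot.bot_lt_coe _)))
    rw [le_bot_iff.mp this, WithBot.bot_add]
  | coe c =>
    induction c using ENat.recTopCoe with
    | top => exact le_top
    | coe n =>
      rcases le_or_gt r n with hr | hr
      · obtain ⟨m, rfl⟩ := Nat.exists_eq_add_of_le hr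
        refine (hmono (ha ((m : ℕ∞) : WithBot ℕ∞) fun t ht => ?_)).trans (le_of_eq (by push_cast; rw [add_comm]))
        rcases hd : d t with _ | a
        · exact bot_le
        · have h' := h t ht
          rw [hd] at h'
          change ((a : ℕ∞) : WithBot ℕ∞) + _ ≤ _ at h'
          rw [hsub, WithBot.coe_le_coe, Nat.cast_add, add_comm (r : ℕ∞)] at h'
          exact WithBot.coe_le_coe.mpr ((ENat.addLECancellable_of_ne_top (ENat.natCast_ne_top r)).add_le_add_iff_right.mp h')
      · have := ha ⊥ (fun t ht => by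
          rcases hd : d t with _ | a
          · exact le_rfl
          · have h' := h t ht
            rw [hd] at h'
            change ((a : ℕ∞) : WithBot ℕ∞) + _ ≤ _ at h'
            rw [hsub, WithBot.coe_le_coe] at h'
            exact absurd ((le_add_self (a := (r : ℕ∞))).trans h') (not_le_of_gt (ENat.natCast_lt_natCast.mpr hr)))
        rw [le_bot_iff.mp this, WithBot.bot_add]
        exact bot_le

end Groth.Agent.EquidimFlat
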