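import Groth.Agent.EquidimFlat.Basic
import Groth.Agent.GeomUnib.FibreDimSemi
import Groth.Agent.BMCoh.Topology
import Groth.Agent.ProConsLib.Generic

/-!
# Morphisms with irreducible closed fibres of constant dimension
-/

universe u

open CategoryTheory CategoryTheory.Limits AlgebraicGeometry TopologicalSpace

namespace Groth.Agent.EquidimFlat

open FibDim FibreDim

theorem exists_closure_subscheme {X : Scheme.{u}} (ξ : X) :
    ∃ (Z : Scheme.{u}) (i : Z ⟶ X) (ξ' : Z), IsClosedImmersion i ∧ Set.range i = closure {ξ} ∧ i ξ' = ξ ∧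
      ∀ w : Z, ξ' ⤳ w := by
  let I := Scheme.IdealSheafData.vanishingIdeal (⟨closure ({ξ} : Set X), isClosed_closure⟩ : TopologicalSpace.Closeds X)
  have hr : Set.range I.subschemeι = closure ({ξ} : Set X) := by
    rw [Scheme.IdealSheafData.range_subschemeι, Scheme.IdealSheafData.coe_support_vanishingIdeal]; rfl
  obtain ⟨g, hg⟩ : ξ ∈ Set.range I.subschemeι := by rw [hr]; exact subset_closure rfl
  refine ⟨I.subscheme, I.subschemeι, g, inferInstance, hr, hg, fun w => I.subschemeι.isEmbedding.isInducing.specializes_iff.mp ?_⟩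
  rw [hg, specializes_iff_mem_closure, ← hr]
  exact ⟨w, rfl⟩

variable {k : Type u} [Field k] {X Y : Scheme.{u}} (f : X ⟶ Y) (q : Y ⟶ Spec (CommRingCat.of k))
  [LocallyOfFiniteType f] [LocallyOfFiniteType q] (d : ℕ)
  (hirr : ∀ y : Y, IsClosed ({y} : Set Y) → IsIrreducible (f.base ⁻¹' {y}))
  (hdim : ∀ y : Y, IsClosed ({y} : Set Y) → topologicalKrullDim ↥(f.base ⁻¹' {y}) = d)

include hirr in
theorem irreducibleSpace_fibre (y : Y) (hy : IsClosed ({y} : Set Y)) : IrreducibleSpace ↑(f.fiber y) := by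
  haveI : IrreducibleSpace ↥(f.base ⁻¹' {y}) :=
    { toPreirreducibleSpace := Subtype.preirreducibleSpace (hirr y hy).2, toNonempty := (hirr y hy).1.to_subtype }
  let e := (f.fiberHomeo y).symm
  refine { toPreirreducibleSpace := ⟨?_⟩, toNonempty := ⟨e (Classical.arbitrary _)⟩ }
  rw [← Set.image_univ_of_surjective e.surjective]
  exact (IrreducibleSpace.isIrreducible_univ ↥(f.base ⁻¹' {y})).2.image _ e.continuous.continuousOn

include hdim in
theorem dim_fibre (y : Y) (hy : IsClosed ({y} : Set Y)) : topologicalKrullDim ↑(f.fiber y) = (d : WithBot ℕ∞) :=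
  ((f.fiberHomeo y).isHomeomorph.topologicalKrullDim_eq).trans (hdim y hy)

include q hirr hdim in
theorem fibreDimAt_closed (x : X) (hy : IsClosed ({f x} : Set Y)) : FlatMor.fibreDimAt f x = d := by
  haveI := irreducibleSpace_fibre f hirr (f x) hy
  haveI : LocallyOfFiniteType (f.fiberToSpecResidueField (f x)) :=
    MorphismProperty.of_isPullback (P := @LocallyOfFiniteType) (IsPullback.of_hasPullback f (Y.fromSpecResidueField (f x))) inferInstance
  obtain ⟨e, he, hc⟩ := exists_dim_of_irreducible (k := Y.residueField (f x)) (f.fiberToSpecResidueField (f x))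
  rw [FlatMor.fibreDimAt, localDim_eq_of_components (k := Y.residueField (f x)) (f.fiberToSpecResidueField (f x)) hc,
    ← he, dim_fibre f d hdim (f x) hy]

include q in
theorem isClosed_image_of_isClosed (x : X) (hx : IsClosed ({x} : Set X)) : IsClosed ({f x} : Set Y) := by
  haveI : JacobsonSpace ↥Y := LocallyOfFiniteType.jacobsonSpace q
  exact f.closePoints_subset_preimage_closedPoints hx

include q hirr hdim in
theorem fdim_max (ξ : X) (hξ : IsMax' ξ) : fdim f ξ = d := by
  haveI : JacobsonSpace ↥X := LocallyOfFiniteType.jacobsonSpace (f ≫ q)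
  obtain ⟨n, hn, -⟩ := exists_fdim f ξ
  refine le_antisymm ?_ ?_
  · obtain ⟨x, hxc, hx⟩ := nonempty_inter_closedPoints (X := ↥X) (Z := closure ({ξ} : Set X))
      ⟨ξ, subset_closure rfl⟩ isClosed_closure.isLocallyClosed
    obtain ⟨O, hxO, hO⟩ := GeomUnib.exists_nhds_fibreDimAt_le f x
    rw [← fibreDimAt_closed f q d hirr hdim x (isClosed_image_of_isClosed f q x hx)]
    exact (fdim_le_fibreDimAt f specializes_rfl).trans (hO ξ ((specializes_iff_mem_closure.mpr hxc).mem_open O.2 hxO))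
  · obtain ⟨O, hξO, hO⟩ := GeomUnib.exists_nhds_fibreDimAt_le f ξ
    obtain ⟨x, hxO, hx⟩ := nonempty_inter_closedPoints (X := ↥X) (Z := (O : Set X)) ⟨ξ, hξO⟩ O.2.isLocallyClosed
    rw [← fibreDimAt_of_maximal f ξ fun w _ hw => hξ w (specializes_iff_mem_closure.2 hw),
      ← fibreDimAt_closed f q d hirr hdim x (isClosed_image_of_isClosed f q x hx)]
    exact hO x hxO

include q hirr hdim in
theorem fibre_subset (ξ : X) (hξ : IsMax' ξ) (x : X) (hξx : ξ ⤳ x) (hy : IsClosed ({f x} : Set Y)) :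
    f.base ⁻¹' {f x} ⊆ closure {ξ} := by
  obtain ⟨Z, i, ξ', hi, hr, hξ', hgen⟩ := exists_closure_subscheme ξ
  obtain ⟨x', rfl⟩ : x ∈ Set.range i := by rw [hr]; exact hξx.mem_closure
  let g := i ≫ f
  obtain ⟨n, hn, ⟨w, hw, -, hwn⟩, -⟩ := exists_fibreDimAt_eq g x'
  have hd : (d : WithBot ℕ∞) ≤ fdim g w := by
    rw [hwn, ← hn]
    obtain ⟨O, hxO, hO⟩ := GeomUnib.exists_nhds_fibreDimAt_le g x'
    refine le_trans ?_ (hO ξ' ((hgen x').mem_open O.2 hxO))
    refine le_trans (le_of_eq ?_) (fdim_le_fibreDimAt g specializes_rfl)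
    rw [← fdim_max f q d hirr hdim ξ hξ, ← hξ', fdim, fdim, ← dim_image i.isEmbedding (closure {ξ'} ∩ _)]
    refine congrArg (fun s : Set X => topologicalKrullDim s) ?_
    ext a
    constructor
    · rintro ⟨ha, ha'⟩
      obtain ⟨a', rfl⟩ : a ∈ Set.range i := by rw [hr, ← hξ']; exact ha
      exact ⟨a', ⟨(hgen a').mem_closure, ha'⟩, rfl⟩
    · rintro ⟨a', ⟨-, ha'⟩, rfl⟩
      exact ⟨((hgen a').map i.continuous).mem_closure, ha'⟩
  let w₀ := i w
  have hw₀y : f w₀ = f (i x') := hw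
  have hd' : (d : WithBot ℕ∞) ≤ fdim f w₀ := by
    refine hd.trans ?_
    rw [fdim, fdim, ← dim_image i.isEmbedding (closure {w} ∩ _)]
    refine dim_mono ?_
    rintro _ ⟨a, ⟨ha, ha'⟩, rfl⟩
    exact ⟨((specializes_iff_mem_closure.mpr ha).map i.continuous).mem_closure, ha'⟩
  rw [fdim_eq_fibre_closure] at hd'
  have hy₀ : IsClosed ({f w₀} : Set Y) := hw₀y.symm ▸ hy
  haveI := irreducibleSpace_fibre f hirr (f w₀) hy₀
  set z₀ := f.asFiber w₀
  have hz₀ : closure ({z₀} : Set ↑(f.fiber (f w₀))) = Set.univ := by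
    by_contra hne
    have hlt := BMCoh.topologicalKrullDim_add_one_le (f := (Subtype.val : closure ({z₀} : Set ↑(f.fiber (f w₀))) → _))
      Topology.IsInducing.subtypeVal (fun hd => hne (by
        have := hd.closure_eq
        rwa [Subtype.range_coe, isClosed_closure.closure_eq] at this))
    rw [dim_fibre f d hdim (f w₀) hy₀] at hlt
    have h := (add_le_add hd' le_rfl).trans hlt
    have : d + 1 ≤ d := by exact_mod_cast h
    omega
  intro a ha
  have ha' : f a = f w₀ := (Set.mem_singleton_iff.mp ha).trans hw₀y.symm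
  obtain ⟨za, hza⟩ : a ∈ Set.range (f.fiberι (f w₀)) := by rw [f.range_fiberι]; exact ha'
  have hwa : w₀ ⤳ a := by
    have h := (specializes_iff_mem_closure.mpr (hz₀.ge (Set.mem_univ za))).map (f.fiberι (f w₀)).continuous
    rwa [f.fiberι_asFiber, hza] at h
  exact hwa.mem_closed isClosed_closure (hr.le ⟨w, rfl⟩)

include q hirr hdim in
theorem dim_component (ξ : X) (hξ : IsMax' ξ) :
    topologicalKrullDim (closure ({ξ} : Set X)) = d + topologicalKrullDim (closure ({f ξ} : Set Y)) := by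
  obtain ⟨a, b, c, ha, hb, hc, hcab⟩ := fdim_comp f q ξ
  rw [fdim_eq_closure] at ha hc
  rw [fdim_max f q d hirr hdim ξ hξ] at hb
  rw [ha, hc, hcab, ← Nat.cast_inj.mp hb, Nat.cast_add, add_comm]

variable [IrreducibleSpace Y] [QuasiCompact (f ≫ q)]

include q hirr in
theorem exists_dominant : ∃ ξ : X, IsMax' ξ ∧ f ξ = genericPoint Y := by
  haveI : JacobsonSpace ↥Y := LocallyOfFiniteType.jacobsonSpace q
  haveI : CompactSpace ↥X := QuasiCompact.compactSpace_of_compactSpace (f ≫ q)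
  haveI : IsLocallyNoetherian X := LocallyOfFiniteType.isLocallyNoetherian (f ≫ q)
  haveI : IsNoetherian X := {}
  let S : Finset (Set X) := (NoetherianSpace.finite_irreducibleComponents (α := ↥X)).toFinset
  have hu : (Set.univ : Set Y) ⊆ ⋃ Z ∈ S, closure (f '' Z) := by
    have hc : IsClosed (⋃ Z ∈ S, closure (f '' Z)) := isClosed_biUnion_finset fun _ _ => isClosed_closure
    rw [← closure_closedPoints (X := ↥Y)]
    refine closure_minimal (fun y hy => ?_) hc
    obtain ⟨x, hx⟩ := (hirr y hy).1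
    refine Set.mem_biUnion (x := irreducibleComponent x) ?_ (subset_closure ⟨x, mem_irreducibleComponent, hx⟩)
    exact (Set.Finite.mem_toFinset _).mpr (irreducibleComponent_mem_irreducibleComponents x)
  obtain ⟨Z, hZ, hgen⟩ := Set.mem_iUnion₂.mp (hu (Set.mem_univ (genericPoint Y)))
  obtain ⟨ξ, hξ, hmax⟩ := exists_isMax'_component (Z := X) ((Set.Finite.mem_toFinset _).mp hZ)
  refine ⟨ξ, hmax, ?_⟩
  have h : f ξ ⤳ genericPoint Y := by
    rw [specializes_iff_mem_closure]
    rwa [← hξ, closure_image_closure f.continuous, Set.image_singleton] at hgen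
  exact (h.antisymm (genericPoint_specializes _)).eq

omit [QuasiCompact (f ≫ q)] in
include q hirr hdim in
theorem dominant_unique (ξ ξ₁ : X) (hξ : IsMax' ξ) (hξ₁ : IsMax' ξ₁) (h : f ξ = genericPoint Y)
    (h₁ : f ξ₁ = genericPoint Y) : ξ = ξ₁ := by
  haveI : JacobsonSpace ↥Y := LocallyOfFiniteType.jacobsonSpace q
  haveI : JacobsonSpace ↥X := LocallyOfFiniteType.jacobsonSpace (f ≫ q)
  obtain ⟨Z, i, ξ', hi, hr, hξ', hgen⟩ := exists_closure_subscheme ξ₁
  have hint := ProConsLib.genericPoint_mem_interior_range (i ≫ f) (⟨ξ', (congrArg f hξ').trans h₁⟩)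
  set V := interior (Set.range (i ≫ f).base)
  -- closed points of the dominated open part
  have hsub : closure ({ξ} : Set X) ∩ f.base ⁻¹' V ∩ closedPoints X ⊆ closure {ξ₁} := by
    rintro x ⟨⟨hxξ, hxV⟩, hx⟩
    have hy := isClosed_image_of_isClosed f q x hx
    obtain ⟨z, hz⟩ := interior_subset hxV
    have hz' : ξ₁ ⤳ i z := hξ' ▸ (hgen z).map i.continuous
    have hz'' : f (i z) = f x := hz
    exact fibre_subset f q d hirr hdim ξ₁ hξ₁ (i z) hz' (hz''.symm ▸ hy) hz''.symm
  by_contra hne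
  have hne' : ξ ∈ closure ({ξ} : Set X) ∩ f.base ⁻¹' V ∩ (closure {ξ₁})ᶜ :=
    ⟨⟨subset_closure rfl, show f ξ ∈ V from h.symm ▸ hint⟩, fun hmem => hne ((hξ _ (specializes_iff_mem_closure.mpr hmem)).symm)⟩
  obtain ⟨x, ⟨hxa, hxn⟩, hx⟩ := nonempty_inter_closedPoints (X := ↥X) ⟨ξ, hne'⟩
    ((isClosed_closure.isLocallyClosed.inter (isOpen_interior.preimage f.continuous).isLocallyClosed).inter
      isClosed_closure.isOpen_compl.isLocallyClosed)
  exact hxn (hsub ⟨hxa, hx⟩)

end Groth.Agent.EquidimFlat
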